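import Groth.Agent.FibDesc.K781.Phi
import Groth.Agent.FibSite.K780.Sheaf
import Mathlib.CategoryTheory.Abelian.GrothendieckAxioms.Sheaf
import Mathlib.CategoryTheory.Abelian.GrothendieckCategory.EnoughInjectives
import Mathlib.CategoryTheory.Sites.LocallyBijective
import Mathlib.CategoryTheory.Sites.Pullback
import Mathlib.CategoryTheory.Limits.ConcreteCategory.Filtered

/-!
# Side conditions for cohomological descent of augmented simplicial spaces
-/

set_option autoImplicit false
set_option backward.isDefEq.respectTransparency false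
set_option backward.isDefEq.respectTransparency.types false

universe v₀ u₀ u

open CategoryTheory Limits ComplexShape Opposite TopologicalSpace FibDesc
open Pseudofunctor.CoGrothendieck

namespace K781.Site

section General

variable {C D : Type u} [SmallCategory C] [SmallCategory D] (G : C ⥤ D) (J : GrothendieckTopology C)
  (K : GrothendieckTopology D)

theorem isIso_counit_of_W [G.IsContinuous J K] (R : Sheaf K AddCommGrpCat.{u})
    (h : K.W ((G.op.lanAdjunction AddCommGrpCat.{u}).counit.app R.obj)) :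
    IsIso ((G.sheafAdjunctionContinuous AddCommGrpCat.{u} J K).counit.app R) := by
  rw [← Adjunction.leftAdjointUniq_hom_app_counit (G.sheafAdjunctionContinuous AddCommGrpCat.{u} J K)
    (Functor.sheafPullbackConstruction.sheafAdjunctionContinuous G AddCommGrpCat.{u} J K) R]
  have h1 : IsIso ((presheafToSheaf K AddCommGrpCat.{u}).map
    ((G.op.lanAdjunction AddCommGrpCat.{u}).counit.app R.obj)) := (K.W_iff _).1 h
  have h2 := Adjunction.map_restrictFullyFaithful_counit_app
    (adj := (G.op.lanAdjunction AddCommGrpCat.{u}).comp (sheafificationAdjunction K AddCommGrpCat.{u}))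
    (hiC := fullyFaithfulSheafToPresheaf J AddCommGrpCat.{u}) (hiD := Functor.FullyFaithful.id _)
    (L := Functor.sheafPullbackConstruction.sheafPullback G AddCommGrpCat.{u} J K)
    (R := G.sheafPushforwardContinuous AddCommGrpCat.{u} J K)
    (comm1 := Iso.refl _) (comm2 := Iso.refl _) R
  have h3 : IsIso ((Functor.sheafPullbackConstruction.sheafAdjunctionContinuous G AddCommGrpCat.{u} J K).counit.app R) := by
    refine (show (Functor.sheafPullbackConstruction.sheafAdjunctionContinuous G AddCommGrpCat.{u} J K).counit.app R = 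
      (presheafToSheaf K AddCommGrpCat.{u}).map ((G.op.lanAdjunction AddCommGrpCat.{u}).counit.app R.obj) ≫
        (sheafificationAdjunction K AddCommGrpCat.{u}).counit.app R from ?_) ▸ inferInstance
    refine h2.trans ?_
    refine (Category.id_comp _).trans ?_
    refine (congrArg (· ≫ _) (CategoryTheory.Functor.map_id _ _)).trans ?_
    refine (Category.id_comp _).trans ?_
    exact Adjunction.comp_counit_app _ _ _
  infer_instance

/-- The element of the left Kan extension of `P` along `G.op` defined by `x : d ⟶ G.obj c` and `p ∈ P(c)`. -/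
noncomputable def elt {P : Cᵒᵖ ⥤ AddCommGrpCat.{u}} {d : D} {c : C} (x : d ⟶ G.obj c) (p : P.obj (op c)) :
    (G.op.lan.obj P).obj (op d) :=
  (G.op.lan.obj P).map x.op ((G.op.lanUnit.app P).app (op c) p)

variable {P : Cᵒᵖ ⥤ AddCommGrpCat.{u}} {d d' : D} {c c' : C}

lemma map_elt (f : d' ⟶ d) (x : d ⟶ G.obj c) (p : P.obj (op c)) :
    (G.op.lan.obj P).map f.op (elt G x p) = elt G (f ≫ x) p := by
  simp only [elt, op_comp, Functor.map_comp_apply]

lemma elt_comp (x : d ⟶ G.obj c) (g : c ⟶ c') (p : P.obj (op c')) :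
    elt G (x ≫ G.map g) p = elt G x (P.map g.op p) := by
  simp only [elt, op_comp, Functor.map_comp_apply]
  congr 1
  exact (NatTrans.naturality_apply (G.op.lanUnit.app P) g.op p).symm

lemma elt_zero (x : d ⟶ G.obj c) : elt G x (0 : P.obj (op c)) = 0 := by
  simp only [elt, map_zero]

lemma counit_elt (R : Dᵒᵖ ⥤ AddCommGrpCat.{u}) (x : d ⟶ G.obj c) (p : R.obj (op (G.obj c))) :
    ((G.op.lanAdjunction AddCommGrpCat.{u}).counit.app R).app (op d)
      (elt G (P := G.op ⋙ R) x p) = R.map x.op p := by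
  simp only [elt]
  refine (NatTrans.naturality_apply ((G.op.lanAdjunction AddCommGrpCat.{u}).counit.app R) x.op _).trans ?_
  refine congrArg (R.map x.op) ?_
  have h := congrArg (fun α => α.app (op c)) ((G.op.lanAdjunction AddCommGrpCat.{u}).right_triangle_components R)
  exact congrArg (fun (α : R.obj (op (G.obj c)) ⟶ R.obj (op (G.obj c))) => α p) h

lemma exists_elt [RepresentablyFlat G] (y : (G.op.lan.obj P).obj (op d)) :
    ∃ (c : C) (x : d ⟶ G.obj c) (p : P.obj (op c)), y = elt G x p := by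
  let hc := G.op.isPointwiseLeftKanExtensionLeftKanExtensionUnit P (op d)
  obtain ⟨f, p, hp⟩ := Concrete.isColimit_exists_rep _ hc y
  exact ⟨f.left.unop, f.hom.unop, p, hp.symm⟩

attribute [local instance] reflectsLimits_of_reflectsIsomorphisms in
theorem preservesFiniteLimits_pullback [G.IsContinuous J K] [RepresentablyFlat G] :
    PreservesFiniteLimits (G.sheafPullback AddCommGrpCat.{u} J K) := by
  have : PreservesFiniteLimits (G.op.lan : (Cᵒᵖ ⥤ AddCommGrpCat.{u}) ⥤ (Dᵒᵖ ⥤ AddCommGrpCat.{u})) :=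
    lan_preservesFiniteLimits_of_flat _ _
  apply Functor.sheafPullbackConstruction.preservesFiniteLimits

end General

variable (Y : (WithInitial SimplexCategory)ᵒᵖ ⥤ TopCat.{u})

theorem isPreFibSite : FibSite.IsPreFibSite (topAug Y) (topAugTop Y) := by
  intro R S f
  exact (inferInstance : (Opens.map (Y.map f)).IsContinuous (Opens.grothendieckTopology (Y.obj S))
    (Opens.grothendieckTopology (Y.obj R)))

theorem isPreFibSite_part : FibSite.IsPreFibSite (part (topAug Y)) (partTop (topAug Y) (topAugTop Y)) := by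
  intro R S f
  exact isPreFibSite Y ((toAug SimplexCategory).map f)

instance : (eps (topAug Y)).IsContinuous (topAugTop Y (bot _)) (totAug (topAug Y) (topAugTop Y)) :=
  K780.Cont.isContinuous_ι (isPreFibSite Y) (bot _)

instance : (eps (topAug Y)).IsCocontinuous (topAugTop Y (bot _)) (totAug (topAug Y) (topAugTop Y)) :=
  K780.Cover.isCocontinuous_ι (isPreFibSite Y) (bot _)

lemma incl_map_ι (i : SimplexCategoryᵒᵖ) {U V : (part (topAug Y)).obj ⟨op i⟩} (r : U ⟶ V) :
    (incl (topAug Y)).map ((ι (part (topAug Y)) i).map r) =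
      (ι (topAug Y) ((toAug SimplexCategory).obj i)).map r := by
  exact hom_ext' Y _ _ rfl

instance : (incl (topAug Y)).IsContinuous (totPart (topAug Y) (topAugTop Y)) (totAug (topAug Y) (topAugTop Y)) := by
  rw [K780.Sheaf.isContinuous_iff (isPreFibSite_part Y)]
  intro i
  have h := K780.Cont.isContinuous_ι (isPreFibSite Y) ((toAug SimplexCategory).obj i)
  exact Functor.isContinuous_of_iso (F₁ := ι (topAug Y) ((toAug SimplexCategory).obj i))
    (F₂ := ι (part (topAug Y)) i ⋙ incl (topAug Y))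
    (NatIso.ofComponents (fun U => Iso.refl _) (fun r => by
      refine (Category.comp_id _).trans (Eq.trans ?_ (Category.id_comp _).symm)
      exact (incl_map_ι Y i r).symm)) _ _

instance : (incl (topAug Y)).IsCocontinuous (totPart (topAug Y) (topAugTop Y)) (totAug (topAug Y) (topAugTop Y)) where
  cover_lift {U S} hS := by
    refine (K780.Cover.mem_totalTopology_iff (isPreFibSite_part Y) _).mpr ?_
    have h := (K780.Cover.mem_totalTopology_iff (isPreFibSite Y) S).mp hS
    exact h

example : ((eps (topAug Y)).sheafPushforwardContinuous AddCommGrpCat.{u} (topAugTop Y (bot _)) (totAug (topAug Y) (topAugTop Y))).IsRightAdjoint := inferInstance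
example : ∀ (P : (∫ᶜ (part (topAug Y)))ᵒᵖ ⥤ AddCommGrpCat.{u}), (incl (topAug Y)).op.HasPointwiseRightKanExtension P := inferInstance

/-- The base point is final. -/
lemma base_unique {i : (WithInitial SimplexCategory)ᵒᵖ} (f g : i ⟶ bot SimplexCategory) : f = g :=
  Quiver.Hom.unop_inj (WithInitial.starInitial.hom_ext _ _)

lemma le_of_hom {i : (WithInitial SimplexCategory)ᵒᵖ} {U : Opens (Y.obj i)} {V : Opens (Y.obj (bot _))}
    (f : pt Y i U ⟶ (eps (topAug Y)).obj V) : U ≤ (Opens.map (Y.map (stt i))).obj V := by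
  have h := fib_le Y f
  rwa [base_unique f.base (stt i)] at h

lemma hom_eq {i : (WithInitial SimplexCategory)ᵒᵖ} {U : Opens (Y.obj i)} {V : Opens (Y.obj (bot _))}
    (f g : pt Y i U ⟶ (eps (topAug Y)).obj V) : f = g :=
  hom_ext' Y _ _ (base_unique _ _)

/-- Objects over `V`. -/
noncomputable abbrev sa {i : (WithInitial SimplexCategory)ᵒᵖ} {U : Opens (Y.obj i)} (V : Opens (Y.obj (bot _)))
    (h : U ≤ (Opens.map (Y.map (stt i))).obj V) : StructuredArrow (pt Y i U) (eps (topAug Y)) :=
  StructuredArrow.mk (S := pt Y i U) (T := eps (topAug Y)) (Y := V) (pm Y (stt i) U V h)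

lemma sa_surj {i : (WithInitial SimplexCategory)ᵒᵖ} {U : Opens (Y.obj i)}
    (A : StructuredArrow (pt Y i U) (eps (topAug Y))) :
    ∃ (V : Opens (Y.obj (bot _))) (h : U ≤ (Opens.map (Y.map (stt i))).obj V), A = sa Y V h := by
  obtain ⟨⟨⟩, V, f⟩ := A
  exact ⟨V, le_of_hom Y f, congrArg (fun k => StructuredArrow.mk (S := pt Y i U) (T := eps (topAug Y)) (Y := V) k)
    (hom_eq Y f _)⟩

/-- Morphisms. -/
noncomputable abbrev saHom {i : (WithInitial SimplexCategory)ᵒᵖ} {U : Opens (Y.obj i)} {V V' : Opens (Y.obj (bot _))}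
    (h : U ≤ (Opens.map (Y.map (stt i))).obj V) (h' : U ≤ (Opens.map (Y.map (stt i))).obj V') (hV : V ≤ V') :
    sa Y V h ⟶ sa Y V' h' :=
  StructuredArrow.homMk (homOfLE hV : V ⟶ V') (hom_eq Y _ _)

instance : RepresentablyFlat (eps (topAug Y)) where
  cofiltered X := by
    obtain ⟨i, U⟩ := X
    change Opens (Y.obj i) at U
    refine { cone_objs := ?_, cone_maps := ?_, nonempty := ⟨sa Y ⊤ le_top⟩ }
    · intro A B
      obtain ⟨V, h, rfl⟩ := sa_surj Y A
      obtain ⟨V', h', rfl⟩ := sa_surj Y B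
      exact ⟨sa Y (V ⊓ V') (le_inf h h'), saHom Y _ _ inf_le_left, saHom Y _ _ inf_le_right, trivial⟩
    · intro A B f g
      refine ⟨A, 𝟙 A, ?_⟩
      have : f = g := StructuredArrow.hom_ext _ _ (by
        obtain ⟨V, h, rfl⟩ := sa_surj Y A
        obtain ⟨V', h', rfl⟩ := sa_surj Y B
        exact Subsingleton.elim (α := ((V : Opens (Y.obj (bot _))) ⟶ V')) _ _)
      rw [this]

instance : PreservesFiniteLimits (FibSite.extend (topAug Y) (topAugTop Y) AddCommGrpCat.{u} (bot _)) :=
  preservesFiniteLimits_pullback (eps (topAug Y)) (topAugTop Y (bot _)) (totAug (topAug Y) (topAugTop Y))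

instance : PreservesFiniteLimits (pull (topAug Y) (topAugTop Y) AddCommGrpCat.{u}) :=
  comp_preservesFiniteLimits _ _

example : EnoughInjectives (DSh (topAug Y) (topAugTop Y) AddCommGrpCat.{u}) := inferInstance
example : EnoughInjectives (BaseSh (topAug Y) (topAugTop Y) AddCommGrpCat.{u}) := inferInstance
example : EnoughInjectives (FibSite.TotSh (topAug Y) (topAugTop Y) AddCommGrpCat.{u}) := inferInstance


theorem isIso_counit (R : FibSite.TotSh (topAug Y) (topAugTop Y) AddCommGrpCat.{u})
   (h1 : ∀ (i : (WithInitial SimplexCategory)ᵒᵖ) (t : Y.obj i) (U : Opens (Y.obj i)) (_ : t ∈ U) (V : Opens (Y.obj (bot _)))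
      (hU : U ≤ (Opens.map (Y.map (stt i))).obj V) (a : R.obj.obj (op (pt Y (bot _) V))),
      R.obj.map (pm Y (stt i) U V hU).op a = 0 → ∃ (V' : Opens (Y.obj (bot _))) (hV : V' ≤ V), Y.map (stt i) t ∈ V' ∧
       R.obj.map (ix Y hV).op a = 0)
   (h2 : ∀ (i : (WithInitial SimplexCategory)ᵒᵖ) (t : Y.obj i) (U : Opens (Y.obj i)) (_ : t ∈ U)
      (b : R.obj.obj (op (pt Y i U))), ∃ (U' : Opens (Y.obj i)) (V : Opens (Y.obj (bot _))) (hU' : U' ≤ U) 
      (hV : U' ≤ (Opens.map (Y.map (stt i))).obj V) (a : R.obj.obj (op (pt Y (bot _) V))),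
      t ∈ U' ∧ R.obj.map (pm Y (stt i) U' V hV).op a = R.obj.map (ix Y hU').op b)
       :
   IsIso (((eps (topAug Y)).sheafAdjunctionContinuous AddCommGrpCat.{u} (topAugTop Y (bot _)) (totAug (topAug Y) (topAugTop Y))).counit.app R) := by
  refine isIso_counit_of_W _ _ _ R ?_
  set φ := (((eps (topAug Y)).op.lanAdjunction AddCommGrpCat.{u}).counit.app R.obj) with hφ
  have hsurj : Presheaf.IsLocallySurjective (totAug (topAug Y) (topAugTop Y)) φ := by
    refine ⟨fun {X} b => ?_⟩
    obtain ⟨i, U⟩ := X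
    refine (K780.Cover.mem_totalTopology_iff (isPreFibSite Y) _).mpr ?_
    intro t ht
    obtain ⟨U', V, hU', hV, a, htU, e⟩ := h2 i t U ht b
    refine ⟨U', homOfLE hU', ?_, htU⟩
    exact ⟨elt (eps (topAug Y)) (P := (eps (topAug Y)).op ⋙ R.obj) (c := V) (pm Y (stt i) U' V hV) a,
      (counit_elt _ _ _ _).trans e⟩
  have hinj : Presheaf.IsLocallyInjective (totAug (topAug Y) (topAugTop Y)) φ := by
    refine ⟨fun {X} x y hxy => ?_⟩
    obtain ⟨i, U⟩ := X
    refine (K780.Cover.mem_totalTopology_iff (isPreFibSite Y) _).mpr ?_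
    intro t ht
    obtain ⟨V, f, a, e⟩ := exists_elt (eps (topAug Y)) (x - y)
    change Opens (Y.obj (bot _)) at V
    have hUV := le_of_hom Y f
    have hf : f = pm Y (stt i) U V hUV := hom_eq Y f _
    have h0 : R.obj.map (pm Y (stt i) U V hUV).op a = 0 := by
      have h3 := congrArg (φ.app (op (pt Y i U))) e
      rw [map_sub, hxy, sub_self, hφ] at h3
      rw [← hf]
      exact ((counit_elt _ _ _ _).symm.trans h3.symm)
    obtain ⟨V', hV, htV, ha⟩ := h1 i t U ht V hUV a h0
    let U' : Opens (Y.obj i) := U ⊓ (Opens.map (Y.map (stt i))).obj V'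
    refine ⟨U', homOfLE inf_le_left, ?_, ⟨ht, htV⟩⟩
    change (((eps (topAug Y)).op.lan.obj ((eps (topAug Y)).op ⋙ R.obj)).map (ix Y (inf_le_left : U' ≤ U)).op) x =
      (((eps (topAug Y)).op.lan.obj ((eps (topAug Y)).op ⋙ R.obj)).map (ix Y (inf_le_left : U' ≤ U)).op) y
    rw [← sub_eq_zero, ← map_sub, e]
    refine (map_elt _ _ _ _).trans ?_
    have h4 : (ix Y (inf_le_left : U' ≤ U)) ≫ f =
        pm Y (stt i) U' V' inf_le_right ≫ (eps (topAug Y)).map (homOfLE hV : V' ⟶ V) := hom_eq Y _ _
    rw [h4]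
    refine (elt_comp _ _ _ _).trans ?_
    refine (congrArg (elt (eps (topAug Y)) _) ?_).trans (elt_zero _ _)
    exact ha
  exact GrothendieckTopology.W_of_isLocallyBijective _ _

end K781.Site
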