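import Groth.Agent.FibDesc.K781.Crit
import Groth.Agent.FibDesc.K61.Fubini
import Groth.Agent.FibDesc.K438.Rows

/-!
# Base change and composition of maps universally of cohomological descent
-/

set_option autoImplicit false
set_option backward.isDefEq.respectTransparency false
set_option backward.isDefEq.respectTransparency.types false

universe v w u

open CategoryTheory CategoryTheory.Limits ComplexShape Opposite TopologicalSpace FibDesc
open K781.Desc K781.God K781.Cech K781.Row K781.Fib K781.Crit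

namespace K437.FD

lemma prod_snd_sq {C : Type w} [Category.{v} C] [HasBinaryProducts C] (A : C) {B D : C} (f : B ⟶ D) :
    IsPullback (prod.snd : A ⨯ B ⟶ B) (prod.map (𝟙 A) f) f prod.snd where
  w := by simp
  isLimit' := ⟨PullbackCone.isLimitAux' _ (fun s ↦ by
    refine ⟨prod.lift (s.snd ≫ prod.fst) s.fst, ?_, ?_, ?_⟩
    · exact prod.lift_snd _ _
    · refine Limits.prod.hom_ext ?_ ?_
      · simp
      · have := s.condition
        simp [this]
    · intro m h₁ h₂
      dsimp at m h₁ h₂ ⊢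
      refine Limits.prod.hom_ext ?_ ?_
      · simp [← h₂]
      · simpa using h₁)⟩

variable {S : TopCat.{u}}

lemma isPullback_prod (A B : Over S) :
    IsPullback (prod.fst : A ⨯ B ⟶ A).left (prod.snd : A ⨯ B ⟶ B).left A.hom B.hom :=
  Over.isPullback_of_binaryFan_isLimit (BinaryFan.mk prod.fst prod.snd) (prodIsProd A B)

lemma isPullback_prodL (A : Over S) {B C : Over S} (f : B ⟶ C) :
    IsPullback (prod.snd : A ⨯ B ⟶ B).left (prod.map (𝟙 A) f).left f.left (prod.snd : A ⨯ C ⟶ C).left :=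
  (prod_snd_sq A f).map (Over.forget S)

lemma isPullback_prodR (A : Over S) {B C : Over S} (f : B ⟶ C) :
    IsPullback (prod.fst : B ⨯ A ⟶ B).left (prod.map f (𝟙 A)).left f.left (prod.fst : C ⨯ A ⟶ C).left :=
  (IsPullback.of_prod_fst_with_id f A).map (Over.forget S)

lemma isOpenEmbedding_of_sq {P X Y Z : TopCat.{u}} {a : P ⟶ X} {b : P ⟶ Y} {f : X ⟶ Z} {g : Y ⟶ Z}
    (sq : IsPullback a b f g) (hf : Topology.IsOpenEmbedding f) : Topology.IsOpenEmbedding b := by
  have h1 := TopCat.snd_isOpenEmbedding_of_left hf g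
  have h2 : b = sq.isoPullback.hom ≫ pullback.snd f g := (sq.isoPullback_hom_snd).symm
  rw [h2]
  exact h1.comp (TopCat.homeoOfIso sq.isoPullback).isOpenEmbedding

/-- The square over the degree zero part of the nerve. -/
lemma sq_nerveZero {X T : TopCat.{u}} (f : X ⟶ T) :
    IsPullback (nerveZero f).hom ((cechAug f).map (init (ob 0)).op) f (𝟙 T) :=
  have : IsIso (show (cechAug f).obj (op .star) ⟶ T from 𝟙 T) := inferInstanceAs (IsIso (𝟙 T))
  IsPullback.of_horiz_isIso ⟨by rw [nerveZero_hom]; exact (Category.comp_id _).symm⟩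

section Main

variable {X Y : TopCat.{u}} (u : X ⟶ S) (v : Y ⟶ S)

/-- The Cech diagram of `v` over `S`. -/
noncomputable abbrev cd : Dpᵒᵖ ⥤ Over S := lift (cechAug v) (𝟙 S)

lemma isCech_cd : IsCech (cd v) := isCech_lift _ (isCech_nerve v) (𝟙 S)

/-- The square of `cd v` in degree zero. -/
lemma sq_cd : IsPullback (nerveZero v).hom ((cd v).map (init (ob 0)).op).left v (𝟙 S) := sq_nerveZero v

lemma desc_L (hv : IsUnivCohDescentMap v) (P : (Over S)ᵒᵖ ⥤ AddCommGrpCat.{u}) (hP : IsCart P)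
    (τ : Dpᵒᵖ ⥤ Over S) (x : Dp) : DescP P ((secL x).op ⋙ bi τ (cd v)) := by
  have h1 : ((secL x).op ⋙ bi τ (cd v)).map (init (ob 0)).op =
      prod.map (𝟙 (τ.obj (op x))) ((cd v).map (init (ob 0)).op) := bi_map_left x _
  have h2 := (isPullback_prodL (τ.obj (op x)) ((cd v).map (init (ob 0)).op)).paste_horiz (sq_cd v)
  have h3 : IsPullback ((prod.snd : τ.obj (op x) ⨯ (cd v).obj (op (ob 0)) ⟶ _).left ≫ (nerveZero v).hom)
      (((secL x).op ⋙ bi τ (cd v)).map (init (ob 0)).op).left v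
      ((prod.snd : τ.obj (op x) ⨯ (cd v).obj (op .star) ⟶ _).left ≫ 𝟙 S) := by
    rw [h1]
    exact h2
  exact desc_of_univ v hv P hP ((secL x).op ⋙ bi τ (cd v)) ((isCech_cd v).prod_left x) _ _ h3

/-- The square of `cd u` restricted to an open subset of `S`. -/
lemma sq_subD (U : Opens ((cd u).obj (op .star)).left) :
    IsPullback (((subDι (cd u) U).app (op (ob 0))).left ≫ (nerveZero u).hom)
      ((subD (cd u) U).map (init (ob 0)).op).left u
      (((subDι (cd u) U).app (op .star)).left ≫ 𝟙 S) :=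
  ((isPullback_subDι (cd u) U (ob 0)).map (Over.forget S)).paste_horiz (sq_cd u)

lemma cd_star_hom : ((cd u).obj (op .star)).hom = 𝟙 S := by
  change (cechAug u).map (init .star).op ≫ 𝟙 S = _
  have : (init .star : WithInitial.star ⟶ .star) = 𝟙 _ := Subsingleton.elim _ _
  rw [this, op_id, (cechAug u).map_id]
  rfl

lemma isOpenEmbedding_subD (U : Opens ((cd u).obj (op .star)).left) :
    Topology.IsOpenEmbedding (((subD (cd u) U).obj (op .star)).hom) := by
  have h1 : ((subD (cd u) U).obj (op .star)).hom =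
      Opens.inclusion' (ov (cd u) U .star) ≫ ((cd u).obj (op .star)).hom := rfl
  have h2 : IsIso ((cd u).obj (op .star)).hom := by
    rw [cd_star_hom]
    exact inferInstanceAs (IsIso (𝟙 S))
  rw [h1]
  exact (TopCat.homeoOfIso (asIso ((cd u).obj (op .star)).hom)).isOpenEmbedding.comp
    (ov (cd u) U .star).isOpenEmbedding

lemma desc_R (h : ∀ n : ℕ, IsCohDescentMap
      (pullback.snd u (WidePullback.base (fun _ : Fin (n + 1) => v) :
        widePullback S (fun _ : Fin (n + 1) => Y) (fun _ => v) ⟶ S)))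
    (P : (Over S)ᵒᵖ ⥤ AddCommGrpCat.{u}) (hP : IsCart P)
    (U : Opens ((cd u).obj (op .star)).left) (n : ℕ) :
    DescP P ((secR (ob n)).op ⋙ bi (subD (cd u) U) (cd v)) := by
  set τ := subD (cd u) U with hτ
  have h1 : ((secR (ob n)).op ⋙ bi τ (cd v)).map (init (ob 0)).op =
      prod.map (τ.map (init (ob 0)).op) (𝟙 ((cd v).obj (op (ob n)))) := bi_map_right (ob n) _
  -- the big square
  have h2 := (isPullback_prodR ((cd v).obj (op (ob n))) (τ.map (init (ob 0)).op)).paste_horiz (sq_subD u U)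
  let b : (τ.obj (op .star) ⨯ (cd v).obj (op (ob n))).left ⟶ widePullback S (fun _ : Fin (n + 1) => Y) (fun _ => v) :=
    (prod.snd : τ.obj (op .star) ⨯ (cd v).obj (op (ob n)) ⟶ _).left
  have hbπ : b ≫ ((cd v).obj (op (ob n))).hom = (τ.obj (op .star) ⨯ (cd v).obj (op (ob n))).hom := Over.w _
  have h3 := IsPullback.of_hasPullback u (WidePullback.base (fun _ : Fin (n + 1) => v) :
        widePullback S (fun _ : Fin (n + 1) => Y) (fun _ => v) ⟶ S)
  have h4 : (prod.fst : τ.obj (op .star) ⨯ (cd v).obj (op (ob n)) ⟶ _).left ≫ 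
      ((subDι (cd u) U).app (op .star)).left ≫ 𝟙 S = b ≫ (WidePullback.base (fun _ : Fin (n + 1) => v) :
        widePullback S (fun _ : Fin (n + 1) => Y) (fun _ => v) ⟶ S) := by
    have e1 := (isPullback_prod (τ.obj (op .star)) ((cd v).obj (op (ob n)))).w
    have e2 : (τ.obj (op .star)).hom = ((subDι (cd u) U).app (op .star)).left ≫ 𝟙 S := by
      rw [← Over.w ((subDι (cd u) U).app (op .star)), cd_star_hom]
    rw [← e2]
    have e3 : ((cd v).obj (op (ob n))).hom = (WidePullback.base (fun _ : Fin (n + 1) => v) :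
        widePullback S (fun _ : Fin (n + 1) => Y) (fun _ => v) ⟶ S) := Category.comp_id _
    exact e1.trans (congrArg (b ≫ ·) e3)
  rw [h4] at h2
  have h5 := IsPullback.of_right' h2 h3
  obtain ⟨a, ha⟩ : ∃ a : (((secR (ob n)).op ⋙ bi τ (cd v)).obj (op (ob 0))).left ⟶ pullback u
      (WidePullback.base (fun _ : Fin (n + 1) => v) : widePullback S (fun _ : Fin (n + 1) => Y) (fun _ => v) ⟶ S),
      IsPullback a (((secR (ob n)).op ⋙ bi τ (cd v)).map (init (ob 0)).op).left (pullback.snd u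
      (WidePullback.base (fun _ : Fin (n + 1) => v) : widePullback S (fun _ : Fin (n + 1) => Y) (fun _ => v) ⟶ S))
      b := by
    rw [h1]
    exact ⟨_, h5⟩
  exact desc_of_coh _ (h n) ((cd v).obj (op (ob n))).hom P hP ((secR (ob n)).op ⋙ bi τ (cd v))
    ((isCech_subD (isCech_cd u) U).prod_right (ob n)) a b
    (isOpenEmbedding_of_sq (isPullback_prod (τ.obj (op .star)) ((cd v).obj (op (ob n))))
      (isOpenEmbedding_subD u U)) hbπ ha

/-- The product with the final object. -/
noncomputable def isoR (τ : Dpᵒᵖ ⥤ Over S) : (secR .star).op ⋙ bi τ (cd v) ≅ τ := by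
  have h2 : IsIso ((cd v).obj (op .star)).hom := by
    rw [cd_star_hom]
    exact inferInstanceAs (IsIso (𝟙 S))
  have h3 : IsTerminal ((cd v).obj (op .star)) :=
    IsTerminal.ofIso Over.mkIdTerminal (Over.isoMk (asIso ((cd v).obj (op .star)).hom) (by simp)).symm
  have h4 : ∀ A : Over S, IsIso (prod.fst : A ⨯ (cd v).obj (op .star) ⟶ A) := fun A =>
    ⟨prod.lift (𝟙 A) (h3.from A), by
      refine Limits.prod.hom_ext ?_ (h3.hom_ext _ _)
      simp, by simp⟩
  exact NatIso.ofComponents (fun x => asIso (prod.fst : τ.obj x ⨯ (cd v).obj (op .star) ⟶ τ.obj x)) (by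
    intro x y f
    exact prod.map_fst _ _)

theorem coh_of_baseChange (hv : IsUnivCohDescentMap v) (h : ∀ n : ℕ, IsCohDescentMap
      (pullback.snd u (WidePullback.base (fun _ : Fin (n + 1) => v) :
        widePullback S (fun _ : Fin (n + 1) => Y) (fun _ => v) ⟶ S))) : IsCohDescentMap u := by
  refine crit₂ (cechAug u) Set.univ ?_ ?_
  · rw [TopologicalSpace.Opens.isBasis_iff_nbhd]
    exact fun {U x} hx => ⟨U, trivial, hx, le_rfl⟩
  · intro P hP U _
    have h1 := (K61.Fub.fubini (rs (bi (subD (cd u) U) (cd v)).rightOp (G P)) (K61.Fub.bb_rs _ (bb_G P))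
      (fun n => desc_R u v h P hP U n) (fun n => desc_L v hv P hP _ (ob n))).1
      (desc_L v hv P hP _ .star)
    exact DescP.of_iso (isoR v (subD (cd u) U)) h1

end Main

section Formal

/-- Being of cohomological descent is invariant under isomorphisms. -/
theorem coh_of_sq {X T X' T' : TopCat.{u}} (f : X ⟶ T) (f' : X' ⟶ T') (a : X' ⟶ X) (b : T' ⟶ T) [IsIso b]
    (sq : IsPullback a f' f b) (hf : IsCohDescentMap f) : IsCohDescentMap f' := by
  refine crit₂ (cechAug f') Set.univ ?_ ?_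
  · rw [TopologicalSpace.Opens.isBasis_iff_nbhd]
    exact fun {U x} hx => ⟨U, trivial, hx, le_rfl⟩
  · intro P hP U _
    have h1 := (sq_subD f' U).paste_horiz sq
    have e2 : ((subD (cd f') U).obj (op .star)).hom = ((subDι (cd f') U).app (op .star)).left ≫ 𝟙 T' := by
      rw [← Over.w ((subDι (cd f') U).app (op .star)), cd_star_hom]
    rw [← e2] at h1
    refine desc_of_coh f hf (inv b) P hP (subD (cd f') U) (isCech_subD (isCech_cd f') U) _ _ ?_ ?_ h1
    · exact (TopCat.homeoOfIso (asIso b)).isOpenEmbedding.comp (isOpenEmbedding_subD f' U)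
    · rw [Category.assoc, IsIso.hom_inv_id, Category.comp_id]

theorem univ_of_sq {X T X' T' : TopCat.{u}} (f : X ⟶ T) (f' : X' ⟶ T') (a : X' ⟶ X) (b : T' ⟶ T)
    (sq : IsPullback a f' f b) (hf : IsUnivCohDescentMap f) : IsUnivCohDescentMap f' := by
  intro S' g
  have h1 := (IsPullback.of_hasPullback f' g).paste_horiz sq
  have h2 := IsPullback.of_hasPullback f (g ≫ b)
  rw [← Category.id_comp (g ≫ b)] at h1
  exact coh_of_sq _ _ _ _ (IsPullback.of_right' h1 h2) (hf _ (g ≫ b))

theorem coh_of_univ {X T : TopCat.{u}} (f : X ⟶ T) (hf : IsUnivCohDescentMap f) : IsCohDescentMap f := by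
  have h1 : IsPullback (𝟙 X) f f (𝟙 T) := IsPullback.of_horiz_isIso ⟨by simp⟩
  have h2 := IsPullback.of_hasPullback f (𝟙 T)
  rw [← Category.id_comp (𝟙 T)] at h1
  exact coh_of_sq _ _ _ _ (IsPullback.of_right' h1 h2) (hf _ (𝟙 T))

/-- The base change of `f` along a map through which the structure map of `g` factors. -/
theorem univ_iff_baseChange {X T T' : TopCat.{u}} (f : X ⟶ T) (g : T' ⟶ T) (hg : IsUnivCohDescentMap g) :
    IsUnivCohDescentMap f ↔ IsUnivCohDescentMap (pullback.snd f g) := by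
  refine ⟨fun hf => univ_of_sq _ _ _ _ (IsPullback.of_hasPullback f g) hf, fun hf Z h => ?_⟩
  refine coh_of_baseChange (pullback.snd f h) (pullback.snd g h)
    (univ_of_sq _ _ _ _ (IsPullback.of_hasPullback g h) hg) fun n => ?_
  set V := widePullback Z (fun _ : Fin (n + 1) => pullback g h) (fun _ => pullback.snd g h)
  let bs : V ⟶ Z := WidePullback.base (fun _ : Fin (n + 1) => pullback.snd g h)
  let k : V ⟶ T' := WidePullback.π (fun _ : Fin (n + 1) => pullback.snd g h) 0 ≫ pullback.fst g h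
  have hk : k ≫ g = bs ≫ h := by
    rw [Category.assoc, pullback.condition, ← Category.assoc, WidePullback.π_arrow]
  have h1 := (IsPullback.of_hasPullback (pullback.snd f h) bs).paste_horiz (IsPullback.of_hasPullback f h)
  rw [← hk] at h1
  exact coh_of_univ _ (univ_of_sq _ _ _ _ (IsPullback.of_right' h1 (IsPullback.of_hasPullback f g)) hf)

theorem univ_of_comp {X Y T : TopCat.{u}} (f : X ⟶ Y) (g : Y ⟶ T) (h : IsUnivCohDescentMap (f ≫ g)) :
    IsUnivCohDescentMap g :=
  (univ_iff_baseChange g (f ≫ g) h).2 (isUnivCohDescentMap_of_section _ (pullback.lift f (𝟙 X) (by simp)) (by simp))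

theorem univ_comp {X Y T : TopCat.{u}} (f : X ⟶ Y) (g : Y ⟶ T) (hf : IsUnivCohDescentMap f)
    (hg : IsUnivCohDescentMap g) : IsUnivCohDescentMap (f ≫ g) :=
  (univ_iff_baseChange (f ≫ g) g hg).2 (univ_of_comp (pullback.lift (𝟙 X) f (by simp)) _ (by simpa using hf))

theorem univ_pullback_map {X X' Y Y' T : TopCat.{u}} (pX : X' ⟶ T) (pY : Y' ⟶ T)
    (f : X ⟶ X') (g : Y ⟶ Y') (hf : IsUnivCohDescentMap f) (hg : IsUnivCohDescentMap g) :
    IsUnivCohDescentMap
      (pullback.map (f ≫ pX) (g ≫ pY) pX pY f g (𝟙 T) (Category.comp_id _) (Category.comp_id _)) := by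
  let m₁ : pullback (f ≫ pX) (g ≫ pY) ⟶ pullback pX (g ≫ pY) :=
    pullback.map (f ≫ pX) (g ≫ pY) pX (g ≫ pY) f (𝟙 Y) (𝟙 T) (by simp) (by simp)
  let m₂ : pullback pX (g ≫ pY) ⟶ pullback pX pY :=
    pullback.map pX (g ≫ pY) pX pY (𝟙 X') g (𝟙 T) (by simp) (by simp)
  have e : pullback.map (f ≫ pX) (g ≫ pY) pX pY f g (𝟙 T) (Category.comp_id _) (Category.comp_id _) = m₁ ≫ m₂ := by
    apply pullback.hom_ext <;> simp [m₁, m₂]
  rw [e]
  refine univ_comp _ _ ?_ ?_
  · -- `m₁` is a base change of `f`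
    have h1 := IsPullback.of_hasPullback (f ≫ pX) (g ≫ pY)
    have h2 := IsPullback.of_hasPullback pX (g ≫ pY)
    have h3 : IsPullback m₁ (pullback.fst (f ≫ pX) (g ≫ pY)) (pullback.fst pX (g ≫ pY)) f := by
      refine IsPullback.of_right (h₁₂ := pullback.snd pX (g ≫ pY)) (h₂₂ := pX) (v₁₃ := g ≫ pY) ?_ (by simp [m₁]) h2.flip
      simpa [m₁] using h1.flip
    exact univ_of_sq _ _ _ _ h3.flip hf
  · have h1 := IsPullback.of_hasPullback pX (g ≫ pY)
    have h2 := IsPullback.of_hasPullback pX pY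
    have h3 : IsPullback m₂ (pullback.snd pX (g ≫ pY)) (pullback.snd pX pY) g := by
      refine IsPullback.of_right (h₁₂ := pullback.fst pX pY) (h₂₂ := pY) (v₁₃ := pX) ?_ (by simp [m₂]) h2
      simpa [m₂] using h1
    exact univ_of_sq _ _ _ _ h3.flip hg

end Formal

end K437.FD
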